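import Mathlib
import Cfsg.Agent.Lib.H20.BHM2
import Cfsg.Agent.Lib.H20.ConjCover
import Cfsg.Agent.Lib.H20.PowDecomp

set_option autoImplicit false

/-!
# Class-size prime graph: general lemmas

General lemmas on class sizes `cs x = |G : C_G(x)|` used for the diameter bound of the
class-size prime graph (built on helper20's `BHM` basics).
-/

namespace Cfsg.Agent.Lib.H4.CG

open Cfsg.Agent.Lib.H20 Cfsg.Agent.Lib.H20.BHM
open scoped Pointwise

variable {G : Type*} [Group G]

theorem mem_cent_iff {x g : G} : g ∈ Subgroup.centralizer ({x} : Set G) ↔ g * x = x * g :=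
  Subgroup.mem_centralizer_singleton_iff

/-- Coprime class sizes: `cs (a b)` divides `cs a * cs b`. -/
theorem cs_mul_dvd [Finite G] {a b : G} (hc : (cs a).Coprime (cs b)) : cs (a * b) ∣ cs a * cs b := by
  have h := index_inf_of_coprime (Subgroup.centralizer ({a} : Set G))
    (Subgroup.centralizer ({b} : Set G)) hc
  unfold cs
  rw [← h]
  apply Subgroup.index_dvd_of_le
  intro g hg
  rw [Subgroup.mem_inf, mem_cent_iff, mem_cent_iff] at hg
  rw [mem_cent_iff]
  calc g * (a * b) = (g * a) * b := by group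
    _ = (a * g) * b := by rw [hg.1]
    _ = a * (g * b) := by group
    _ = a * (b * g) := by rw [hg.2]
    _ = a * b * g := by group

theorem cs_eq_of_mem_cls {b z : G} (hz : z ∈ cls b) : cs z = cs b := by
  obtain ⟨g, rfl⟩ := hz
  exact cs_conj g b

/-- helper20's `smul_cls_eq` with the global maximality replaced by a local inequality. -/
theorem smul_cls_eq' [Finite G] {a b0 : G} (hc : (cs a).Coprime (cs b0))
    (hle : cs (a * b0) ≤ cs b0) : a • cls b0 = cls (a * b0) := by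
  apply Set.eq_of_subset_of_ncard_le _ _ (Set.toFinite _)
  · rintro _ ⟨z, ⟨g, rfl⟩, rfl⟩
    obtain ⟨u, hu, v, hv, rfl⟩ := exists_mul_of_coprime hc g
    rw [Subgroup.mem_centralizer_singleton_iff] at hu hv
    refine ⟨u, ?_⟩
    have hv' : v * b0 * v⁻¹ = b0 := by rw [hv]; group
    have hu' : u * a = a * u := hu
    have e1 : u * v * b0 * (u * v)⁻¹ = u * (v * b0 * v⁻¹) * u⁻¹ := by group
    simp only [smul_eq_mul]
    rw [e1, hv']
    calc u * (a * b0) * u⁻¹ = (u * a) * b0 * u⁻¹ := by group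
      _ = (a * u) * b0 * u⁻¹ := by rw [hu']
      _ = a * (u * b0 * u⁻¹) := by group
  · rw [Set.ncard_smul_set, ← Nat.card_coe_set_eq, ← Nat.card_coe_set_eq, card_cls, card_cls]
    exact hle

theorem inv_mul_conj_mem_stabK' [Finite G] {a b0 : G} (hc : (cs a).Coprime (cs b0))
    (hle : cs (a * b0) ≤ cs b0) (g : G) (hle' : cs (g * a * g⁻¹ * b0) ≤ cs b0) :
    a⁻¹ * (g * a * g⁻¹) ∈ stabK b0 := by
  have hc' : (cs (g * a * g⁻¹)).Coprime (cs b0) := by rw [cs_conj]; exact hc
  have h1 := smul_cls_eq' hc hle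
  have h2 := smul_cls_eq' hc' hle'
  have h3 : a * (g⁻¹ * b0 * g⁻¹⁻¹) ∈ cls (a * b0) := by
    rw [← h1]
    exact ⟨_, ⟨g⁻¹, rfl⟩, rfl⟩
  have h4 : g * a * g⁻¹ * b0 ∈ cls (a * b0) := by
    have := conj_mem_cls h3 g
    have e : g * (a * (g⁻¹ * b0 * g⁻¹⁻¹)) * g⁻¹ = g * a * g⁻¹ * b0 := by group
    rwa [e] at this
  have h5 : cls (g * a * g⁻¹ * b0) = cls (a * b0) := cls_eq_of_mem h4
  rw [h5, ← h1] at h2
  unfold stabK
  rw [MulAction.mem_stabilizer_iff, mul_smul, h2, inv_smul_smul]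

theorem stabK_le_centralizer' [Finite G] {a b0 : G} (hc : (cs a).Coprime (cs b0)) :
    stabK b0 ≤ Subgroup.centralizer ({a} : Set G) := by
  rw [← Subgroup.relIndex_eq_one]
  have h1 : (Subgroup.centralizer ({a} : Set G)).relIndex (stabK b0) ∣ cs a :=
    Cfsg.Agent.Lib.H1.relIndex_dvd_index_of_normal_right _ _
  have h2 : (Subgroup.centralizer ({a} : Set G)).relIndex (stabK b0) ∣ cs b0 :=
    (Subgroup.relIndex_dvd_card _ _).trans (card_stabK_dvd b0)
  exact Nat.eq_one_of_dvd_coprimes hc h1 h2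

/-- A `q`-subgroup fixes a coset of a subgroup of index prime to `q`. -/
theorem exists_conj_mem_of_not_dvd_index [Finite G] {q : ℕ} [Fact q.Prime] {Q : Subgroup G}
    (hQ : IsPGroup q Q) (H : Subgroup G) (h : ¬ q ∣ H.index) :
    ∃ g : G, ∀ u ∈ Q, g⁻¹ * u * g ∈ H := by
  obtain ⟨x, hx⟩ := hQ.nonempty_fixed_point_of_prime_not_dvd_card (G ⧸ H) h
  obtain ⟨g, rfl⟩ := QuotientGroup.mk_surjective x
  refine ⟨g, fun u hu => ?_⟩
  have h1 := hx ⟨u, hu⟩
  have h2 : (QuotientGroup.mk (u * g) : G ⧸ H) = QuotientGroup.mk g := h1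
  rw [QuotientGroup.eq] at h2
  have e : g⁻¹ * u * g = ((u * g)⁻¹ * g)⁻¹ := by group
  rw [e]
  exact H.inv_mem h2

/-- If `q` divides no class size, every `q`-subgroup is central. -/
theorem le_center_of_not_dvd_cs [Finite G] {q : ℕ} [Fact q.Prime] (h : ∀ g : G, ¬ q ∣ cs g)
    {Q : Subgroup G} (hQ : IsPGroup q Q) : Q ≤ Subgroup.center G := by
  by_contra hne
  have hM : Subgroup.centralizer (Q : Set G) ≠ ⊤ := by
    intro htop
    apply hne
    intro u hu
    rw [Subgroup.mem_center_iff]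
    intro g
    have hg : g ∈ Subgroup.centralizer (Q : Set G) := by rw [htop]; exact Subgroup.mem_top g
    rw [Subgroup.mem_centralizer_iff] at hg
    exact (hg u hu).symm
  obtain ⟨g, hg⟩ := exists_not_mem_conj _ hM
  obtain ⟨t, ht⟩ := exists_conj_mem_of_not_dvd_index hQ (Subgroup.centralizer ({g} : Set G)) (h g)
  apply hg t⁻¹
  rw [Subgroup.mem_pointwise_smul_iff_inv_smul_mem]
  simp only [MulAut.smul_def, map_inv, inv_inv, MulAut.conj_apply]
  rw [Subgroup.mem_centralizer_iff]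
  intro u hu
  have h1 := ht u hu
  rw [mem_cent_iff] at h1
  calc u * (t * g * t⁻¹) = t * (t⁻¹ * u * t * g) * t⁻¹ := by group
    _ = t * (g * (t⁻¹ * u * t)) * t⁻¹ := by rw [h1]
    _ = t * g * t⁻¹ * u := by group

/-- Class sizes in a quotient divide class sizes upstairs. -/
theorem cs_mk_dvd [Finite G] (N : Subgroup G) [N.Normal] (g : G) :
    cs (QuotientGroup.mk g : G ⧸ N) ∣ cs g := by
  have h1 : (Subgroup.centralizer ({g} : Set G)).map (QuotientGroup.mk' N) ≤
      Subgroup.centralizer ({(QuotientGroup.mk g : G ⧸ N)} : Set (G ⧸ N)) := by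
    rintro _ ⟨c, hc, rfl⟩
    rw [SetLike.mem_coe, mem_cent_iff] at hc
    rw [mem_cent_iff]
    change (QuotientGroup.mk c : G ⧸ N) * QuotientGroup.mk g = QuotientGroup.mk g * QuotientGroup.mk c
    rw [← QuotientGroup.mk_mul, ← QuotientGroup.mk_mul, hc]
  exact (Subgroup.index_dvd_of_le h1).trans
    (Subgroup.index_map_dvd _ (QuotientGroup.mk'_surjective N))

end Cfsg.Agent.Lib.H4.CG
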