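import Mathlib
import Cfsg.Agent.Lib.H4.CG.ClassGraphA

set_option autoImplicit false

/-!
# Class-size prime graph: the context and Steps 1–3

`Ctx A B q x0`: two disjoint sets of primes with no edges between them, `x0` with class size an
`A`-number, every `y` with `q ∣ cs y` has class size a `B`-number smaller than `cs x0`.
`K = stabK x0` is normal of order dividing `cs x0`; for a Sylow `q`-subgroup `Q` we get
`C_G(Q) ⊔ K = ⊤`.
-/

namespace Cfsg.Agent.Lib.H4.CG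

open Cfsg.Agent.Lib.H20 Cfsg.Agent.Lib.H20.BHM
open scoped Pointwise

variable {G : Type*} [Group G]

/-- The hypotheses of the core theorem. -/
structure Ctx (A B : Set ℕ) (q : ℕ) (x0 : G) : Prop where
  hq : q.Prime
  hqB : q ∈ B
  disj : ∀ r : ℕ, r ∈ A → r ∈ B → False
  noedge : ∀ (g : G) (a b : ℕ), a ∈ A → b ∈ B → a ∣ cs g → b ∣ cs g → False
  x0A : ∀ r : ℕ, r.Prime → r ∣ cs x0 → r ∈ A
  yB : ∀ y : G, q ∣ cs y → ∀ r : ℕ, r.Prime → r ∣ cs y → r ∈ B
  ylt : ∀ y : G, q ∣ cs y → cs y < cs x0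
  exy : ∃ y : G, q ∣ cs y

theorem index_dvd_card_of_sup_eq_top [Finite G] (C K : Subgroup G) [K.Normal] (h : C ⊔ K = ⊤) :
    C.index ∣ Nat.card K := by
  have e1 := Cfsg.Agent.Lib.H1.card_sup_mul_card_inf C K
  rw [h, Subgroup.card_top, ← C.card_mul_index, mul_assoc] at e1
  have hpos : 0 < Nat.card C := Nat.card_pos
  have e2 := Nat.eq_of_mul_eq_mul_left hpos e1
  exact ⟨_, e2.symm⟩

variable [Finite G] {A B : Set ℕ} {q : ℕ} {x0 : G} (S : Ctx A B q x0)

include S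

theorem Ctx.coprime {y : G} (hy : q ∣ cs y) : (cs y).Coprime (cs x0) := by
  by_contra hne
  obtain ⟨r, hr, hd⟩ := Nat.exists_prime_and_dvd hne
  exact S.disj r (S.x0A r hr (hd.trans (Nat.gcd_dvd_right _ _)))
    (S.yB y hy r hr (hd.trans (Nat.gcd_dvd_left _ _)))

theorem Ctx.cs_mul_le {y : G} (hy : q ∣ cs y) : cs (y * x0) ≤ cs x0 := by
  have hc := S.coprime hy
  have hd : cs (y * x0) ∣ cs y * cs x0 := cs_mul_dvd hc
  have h1 : cs (y * x0) = Nat.gcd (cs (y * x0)) (cs y) * Nat.gcd (cs (y * x0)) (cs x0) := by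
    rw [← Nat.Coprime.gcd_mul _ hc]
    exact (Nat.gcd_eq_left hd).symm
  by_cases ha : Nat.gcd (cs (y * x0)) (cs x0) = 1
  · have h2 : cs (y * x0) ∣ cs y := by
      rw [h1, ha, mul_one]
      exact Nat.gcd_dvd_right _ _
    exact (Nat.le_of_dvd (Nat.pos_of_ne_zero (cs_ne_zero y)) h2).trans (S.ylt y hy).le
  · by_cases hb : Nat.gcd (cs (y * x0)) (cs y) = 1
    · have h2 : cs (y * x0) ∣ cs x0 := by
        rw [h1, hb, one_mul]
        exact Nat.gcd_dvd_right _ _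
      exact Nat.le_of_dvd (Nat.pos_of_ne_zero (cs_ne_zero x0)) h2
    · exfalso
      obtain ⟨a, hap, had⟩ := Nat.exists_prime_and_dvd ha
      obtain ⟨b, hbp, hbd⟩ := Nat.exists_prime_and_dvd hb
      exact S.noedge (y * x0) a b (S.x0A a hap (had.trans (Nat.gcd_dvd_right _ _)))
        (S.yB y hy b hbp (hbd.trans (Nat.gcd_dvd_right _ _)))
        (had.trans (Nat.gcd_dvd_left _ _)) (hbd.trans (Nat.gcd_dvd_left _ _))

/-- Step 1: `y⁻¹ y^g ∈ K`. -/
theorem Ctx.inv_mul_conj_mem {y : G} (hy : q ∣ cs y) (g : G) :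
    y⁻¹ * (g * y * g⁻¹) ∈ stabK x0 :=
  inv_mul_conj_mem_stabK' (S.coprime hy) (S.cs_mul_le hy) g
    (S.cs_mul_le (by rw [cs_conj]; exact hy))

theorem Ctx.not_dvd_card_K : ¬ q ∣ Nat.card (stabK x0) := fun h =>
  S.disj q (S.x0A q S.hq (h.trans (card_stabK_dvd x0))) S.hqB

/-- Step 3a: `q` divides no class size of `G ⧸ K`. -/
theorem Ctx.not_dvd_cs_quot (gb : G ⧸ stabK x0) : ¬ q ∣ cs gb := by
  obtain ⟨g, rfl⟩ := QuotientGroup.mk_surjective gb
  intro h
  have hy : q ∣ cs g := h.trans (cs_mk_dvd _ g)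
  have hcen : (QuotientGroup.mk g : G ⧸ stabK x0) ∈ Subgroup.center (G ⧸ stabK x0) := by
    rw [Subgroup.mem_center_iff]
    intro hb
    obtain ⟨h', rfl⟩ := QuotientGroup.mk_surjective hb
    have h1 := S.inv_mul_conj_mem hy h'
    have h2 := (stabK_normal x0).conj_mem _ h1 h'⁻¹
    have e : h'⁻¹ * (g⁻¹ * (h' * g * h'⁻¹)) * h'⁻¹⁻¹ = (g * h')⁻¹ * (h' * g) := by group
    rw [e] at h2
    rw [← QuotientGroup.mk_mul, ← QuotientGroup.mk_mul]
    exact (QuotientGroup.eq.mpr h2).symm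
  rw [(cs_eq_one_iff _).mpr hcen, Nat.dvd_one] at h
  exact S.hq.one_lt.ne' h

/-- Step 3b: `q`-subgroups are central modulo `K`. -/
theorem Ctx.comm_mem {Q : Subgroup G} (hQ : IsPGroup q Q) {u : G} (hu : u ∈ Q) (g : G) :
    g * u * g⁻¹ * u⁻¹ ∈ stabK x0 := by
  haveI : Fact q.Prime := ⟨S.hq⟩
  have hmap : IsPGroup q (Q.map (QuotientGroup.mk' (stabK x0))) := hQ.map _
  have h1 := le_center_of_not_dvd_cs S.not_dvd_cs_quot hmap (Subgroup.mem_map_of_mem _ hu)
  rw [Subgroup.mem_center_iff] at h1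
  have h2 := h1 (QuotientGroup.mk g)
  rw [← QuotientGroup.eq_one_iff]
  simp only [QuotientGroup.mk_mul, QuotientGroup.mk_inv]
  simp only [QuotientGroup.mk'_apply] at h2
  rw [h2]
  group

theorem Ctx.eq_one_of_mem {Q : Subgroup G} (hQ : IsPGroup q Q) {c : G} (hc : c ∈ Q)
    (hcK : c ∈ stabK x0) : c = 1 := by
  obtain ⟨k, hk⟩ := hQ ⟨c, hc⟩
  have h1 : c ^ q ^ k = 1 := by
    have := congrArg Subtype.val hk
    simpa using this
  have h2 : c ^ Nat.card (stabK x0) = 1 := by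
    have := pow_card_eq_one' (G := stabK x0) (x := ⟨c, hcK⟩)
    exact congrArg Subtype.val this
  have h3 : orderOf c ∣ q ^ k := orderOf_dvd_of_pow_eq_one h1
  have h4 : orderOf c ∣ Nat.card (stabK x0) := orderOf_dvd_of_pow_eq_one h2
  have hcop : (q ^ k).Coprime (Nat.card (stabK x0)) :=
    Nat.Coprime.pow_left k ((Nat.Prime.coprime_iff_not_dvd S.hq).mpr S.not_dvd_card_K)
  exact orderOf_eq_one_iff.mp (Nat.eq_one_of_dvd_coprimes hcop h3 h4)

/-- Step 3c: the normalizer of a `q`-subgroup centralizes it. -/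
theorem Ctx.normalizer_le_centralizer {Q : Subgroup G} (hQ : IsPGroup q Q) :
    Subgroup.normalizer (Q : Set G) ≤ Subgroup.centralizer (Q : Set G) := by
  intro n hn
  rw [Subgroup.mem_centralizer_iff]
  intro u hu
  have h1 : n * u * n⁻¹ ∈ Q := (Subgroup.mem_normalizer_iff.mp hn u).mp hu
  have h2 : n * u * n⁻¹ * u⁻¹ ∈ Q := Q.mul_mem h1 (Q.inv_mem hu)
  have h3 := S.eq_one_of_mem hQ h2 (S.comm_mem hQ hu n)
  calc u * n = (n * u * n⁻¹ * u⁻¹)⁻¹ * (n * u) := by group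
    _ = n * u := by rw [h3]; group

theorem Ctx.sup_normal {Q : Subgroup G} (hQ : IsPGroup q Q) : (Q ⊔ stabK x0).Normal := by
  constructor
  intro n hn g
  rw [← SetLike.mem_coe, Subgroup.mul_normal, Set.mem_mul] at hn
  obtain ⟨u, hu, k, hk, rfl⟩ := hn
  have h1 : g * u * g⁻¹ * u⁻¹ ∈ stabK x0 := S.comm_mem hQ hu g
  have h2 : g * k * g⁻¹ ∈ stabK x0 := (stabK_normal x0).conj_mem _ hk g
  have e : g * (u * k) * g⁻¹ = (g * u * g⁻¹ * u⁻¹) * u * (g * k * g⁻¹) := by group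
  rw [e]
  exact Subgroup.mul_mem _ (Subgroup.mul_mem _ (Subgroup.mem_sup_right h1)
    (Subgroup.mem_sup_left hu)) (Subgroup.mem_sup_right h2)

/-- Step 3d: `G = C_G(Q) K` for a Sylow `q`-subgroup `Q`. -/
theorem Ctx.centralizer_sup_eq_top [Fact q.Prime] (Q : Sylow q G) :
    Subgroup.centralizer ((Q : Subgroup G) : Set G) ⊔ stabK x0 = ⊤ := by
  haveI := S.sup_normal Q.2
  have h1 := Sylow.normalizer_sup_eq_top' (N := (Q : Subgroup G) ⊔ stabK x0) Q le_sup_left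
  rw [eq_top_iff, ← h1]
  apply sup_le
  · exact le_sup_of_le_left (S.normalizer_le_centralizer Q.2)
  · apply sup_le
    · apply le_sup_of_le_left
      exact Subgroup.le_normalizer.trans (S.normalizer_le_centralizer Q.2)
    · exact le_sup_right

/-- Step 4b: elements of a Sylow `q`-subgroup have class size dividing `cs x0`. -/
theorem Ctx.cs_dvd_of_mem [Fact q.Prime] (Q : Sylow q G) {u : G} (hu : u ∈ Q) :
    cs u ∣ cs x0 := by
  have h1 : Subgroup.centralizer ((Q : Subgroup G) : Set G) ≤ Subgroup.centralizer ({u} : Set G) :=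
    Subgroup.centralizer_le (by simpa using hu)
  exact (Subgroup.index_dvd_of_le h1).trans
    ((index_dvd_card_of_sup_eq_top _ _ (S.centralizer_sup_eq_top Q)).trans (card_stabK_dvd x0))

end Cfsg.Agent.Lib.H4.CG
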