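import Mathlib
import Cfsg.Agent.Lib.H4.CG.ClassGraphB

set_option autoImplicit false

/-!
# Class-size prime graph: Steps 4–5 and the core theorem

`Ctx.core`: in the context `Ctx A B q x0`, every class size divisible by a prime of `B` is
divisible by `q`.
-/

namespace Cfsg.Agent.Lib.H4.CG

open Cfsg.Agent.Lib.H20 Cfsg.Agent.Lib.H20.BHM
open scoped Pointwise

/-- A `q`-element centralizing a Sylow `q`-subgroup lies in it. -/
theorem mem_sylow_of_centralizes {G : Type*} [Group G] [Finite G] {q : ℕ} [Fact q.Prime]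
    (Q : Sylow q G) {z : G} {e : ℕ}
    (hz : orderOf z = q ^ e) (hc : ∀ u ∈ Q, u * z = z * u) : z ∈ Q := by
  have hZ : IsPGroup q (Subgroup.zpowers z) := IsPGroup.of_card (n := e) (by rw [Nat.card_zpowers, hz])
  have hzc : Subgroup.zpowers z ≤ Subgroup.centralizer ((Q : Subgroup G) : Set G) := by
    rw [Subgroup.zpowers_le, Subgroup.mem_centralizer_iff]
    exact hc
  have hn : Subgroup.zpowers z ≤ Subgroup.normalizer ((Q : Subgroup G) : Set G) := by
    rw [Subgroup.le_normalizer_iff]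
    intro h hh u hu
    have h1 := hzc hh
    rw [Subgroup.mem_centralizer_iff] at h1
    have h2 : h * u * h⁻¹ = u := by rw [← h1 u hu]; group
    rw [h2]
    exact hu
  have h1 := Q.is_maximal' (hZ.to_sup_of_normal_right' Q.2 hn) le_sup_right
  rw [← SetLike.mem_coe, ← Sylow.coe_coe] 
  rw [← h1]
  exact Subgroup.mem_sup_left (Subgroup.mem_zpowers z)

variable {G : Type*} [Group G] [Finite G] {A B : Set ℕ} {q : ℕ} {x0 : G} (S : Ctx A B q x0)

include S

/-- Step 4d: a Sylow `q`-subgroup is not central. -/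
theorem Ctx.exists_noncentral [Fact q.Prime] (Q : Sylow q G) : ∃ u ∈ Q, cs u ≠ 1 := by
  by_contra hcon
  push Not at hcon
  obtain ⟨y, hy⟩ := S.exy
  have hle : (Q : Subgroup G) ≤ Subgroup.centralizer ({y} : Set G) := by
    intro u hu
    have h1 := (cs_eq_one_iff u).mp (hcon u hu)
    rw [mem_cent_iff]
    exact (Subgroup.mem_center_iff.mp h1 y).symm
  have h2 : cs y ∣ (Q : Subgroup G).index := Subgroup.index_dvd_of_le hle
  exact Q.not_dvd_index (hy.trans h2)

/-- **Core theorem**: a class size divisible by a prime of `B` is divisible by `q`. -/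
theorem Ctx.core (w : G) (b : ℕ) (hbB : b ∈ B) (hbw : b ∣ cs w) : q ∣ cs w := by
  haveI : Fact q.Prime := ⟨S.hq⟩
  by_contra hqw
  obtain ⟨Q⟩ : Nonempty (Sylow q G) := inferInstance
  obtain ⟨t, ht⟩ := exists_conj_mem_of_not_dvd_index Q.2 (Subgroup.centralizer ({w} : Set G)) hqw
  have hcs1 : cs (t * w * t⁻¹) = cs w := cs_conj t w
  have hbw1 : b ∣ cs (t * w * t⁻¹) := by rw [hcs1]; exact hbw
  have hw1c : ∀ u ∈ Q, u * (t * w * t⁻¹) = (t * w * t⁻¹) * u := by
    intro u hu
    have h1 := ht u hu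
    rw [mem_cent_iff] at h1
    calc u * (t * w * t⁻¹) = t * (t⁻¹ * u * t * w) * t⁻¹ := by group
      _ = t * (w * (t⁻¹ * u * t)) * t⁻¹ := by rw [h1]
      _ = t * w * t⁻¹ * u := by group
  generalize t * w * t⁻¹ = w1 at hbw1 hw1c
  obtain ⟨k, l, hkl, ⟨e, he⟩, hcop⟩ :=
    exists_pPart_pPrimePart w1 (isOfFinOrder_of_finite w1) q S.hq
  have hk_mem : w1 ^ k ∈ Q := by
    apply mem_sylow_of_centralizes Q he
    intro u hu
    have hc0 : Commute u w1 := hw1c u hu
    exact (hc0.pow_right k).eq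
  have hk1 : cs (w1 ^ k) = 1 := by
    by_contra hne
    obtain ⟨a, hap, had⟩ := Nat.exists_prime_and_dvd hne
    have haA := S.x0A a hap (had.trans (S.cs_dvd_of_mem Q hk_mem))
    have haw : a ∣ cs w1 := had.trans (cs_dvd_of_le (centralizer_le_pow w1 k))
    exact S.noedge w1 a b haA hbB haw hbw1
  have hkc : w1 ^ k ∈ Subgroup.center G := (cs_eq_one_iff _).mp hk1
  rw [Subgroup.mem_center_iff] at hkc
  have hle : Subgroup.centralizer ({w1 ^ l} : Set G) ≤ Subgroup.centralizer ({w1} : Set G) := by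
    intro g hg
    rw [mem_cent_iff] at hg ⊢
    calc g * w1 = g * (w1 ^ k * w1 ^ l) := by rw [hkl]
      _ = (g * w1 ^ k) * w1 ^ l := by rw [mul_assoc]
      _ = (w1 ^ k * g) * w1 ^ l := by rw [hkc g]
      _ = w1 ^ k * (g * w1 ^ l) := by rw [mul_assoc]
      _ = w1 ^ k * (w1 ^ l * g) := by rw [hg]
      _ = w1 * g := by rw [← mul_assoc, hkl]
  have hbl : b ∣ cs (w1 ^ l) := hbw1.trans (cs_dvd_of_le hle)
  obtain ⟨u0, hu0, hu0ne⟩ := S.exists_noncentral Q
  have hc0 : Commute u0 w1 := hw1c u0 hu0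
  have hcomm : Commute u0 (w1 ^ l) := hc0.pow_right l
  have hord : (orderOf u0).Coprime (orderOf (w1 ^ l)) := by
    obtain ⟨j, hj⟩ := Q.2 ⟨u0, hu0⟩
    have h1 : u0 ^ q ^ j = 1 := by
      have := congrArg Subtype.val hj
      simpa using this
    exact Nat.Coprime.coprime_dvd_left (orderOf_dvd_of_pow_eq_one h1) (hcop.symm.pow_left j)
  have hcent := centralizer_mul_of_coprime hcomm hord
  obtain ⟨a, hap, had⟩ := Nat.exists_prime_and_dvd hu0ne
  have haA := S.x0A a hap (had.trans (S.cs_dvd_of_mem Q hu0))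
  have h1 : cs u0 ∣ cs (u0 * w1 ^ l) := by
    unfold cs
    rw [hcent]
    exact Subgroup.index_dvd_of_le inf_le_left
  have h2 : cs (w1 ^ l) ∣ cs (u0 * w1 ^ l) := by
    unfold cs
    rw [hcent]
    exact Subgroup.index_dvd_of_le inf_le_right
  exact S.noedge (u0 * w1 ^ l) a b haA hbB (had.trans h1) (hbl.trans h2)

end Cfsg.Agent.Lib.H4.CG
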